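import Cfsg.Agent.Lib.InvolChar.D8
import Cfsg.Agent.Lib.SmallSimple.Order360
import Cfsg.Agent.Lib.SmallGroups.Order168Model
import Cfsg.Agent.Lib.Spectrum.ASL24

/-!
# Element orders of a perfect group with a dihedral involution centraliser of order eight

The group is simple of order 168 or 360, so the orders are among `1, 2, 3, 4, 5, 7`.
-/

set_option autoImplicit false
set_option linter.style.haveILetI false

namespace CfsgLib.ThType

open Subgroup CfsgLib.SmallGroups

theorem model168_orders :
    ∀ c ∈ Model168.elems, Model168.pw c 3 = Model168.one ∨ Model168.pw c 4 = Model168.one ∨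
      Model168.pw c 7 = Model168.one := by
  decide +kernel

/-- The orders dividing one of `3, 4, 5, 7`. -/
theorem mem_of_dvd {n k : ℕ} (hk : k ∈ [2, 3, 4, 5, 7]) (h : n ∣ k) : n ∈ [1, 2, 3, 4, 5, 7] := by
  have hn : n ≤ 7 := (Nat.le_of_dvd (by fin_cases hk <;> norm_num) h).trans (by fin_cases hk <;> norm_num)
  fin_cases hk <;> interval_cases n <;> simp_all <;> omega

theorem orderOf_mem_of_dihedral {P : Type*} [Group P] [Finite P] (hperf : commutator P = ⊤) {t r s : P}
    (ht : orderOf t = 2) (hC8 : Nat.card (Subgroup.centralizer ({t} : Set P)) = 8)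
    (hr : r ∈ Subgroup.centralizer ({t} : Set P)) (hr4 : orderOf r = 4)
    (hs : s ∈ Subgroup.centralizer ({t} : Set P)) (hs2 : orderOf s = 2) (hsr : s * r * s⁻¹ = r⁻¹) (x : P) :
    orderOf x ∈ [1, 2, 3, 4, 5, 7] := by
  have hG : ∀ H : Subgroup P, H.index ≠ 2 := fun H hH => by
    haveI : H.Normal := normal_of_index_eq_two hH
    have hc : Nat.card (P ⧸ H) = 2 := by rw [← index_eq_card]; exact hH
    haveI : Fact (Nat.Prime 2) := ⟨Nat.prime_two⟩
    haveI : IsCyclic (P ⧸ H) := isCyclic_of_prime_card hc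
    have hle : commutator P ≤ H := by
      rw [_root_.commutator_def, commutator_le]
      intro a _ b _
      rw [← QuotientGroup.eq_one_iff]
      show (QuotientGroup.mk' H) _ = 1
      rw [map_commutatorElement, commutatorElement_eq_one_iff_mul_comm]
      exact @mul_comm _ IsCyclic.commGroup.toCommMagma _ _
    rw [hperf, top_le_iff] at hle
    rw [hle, index_top] at hH
    omega
  obtain ⟨hsimple, hcard⟩ := CfsgLib.InvolChar.dihedral_eight hG hC8 ht hr hr4 hs hs2 hsr
  haveI := hsimple
  rcases hcard with h | h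
  · obtain ⟨C⟩ := Model168.exists_coding h
    rcases model168_orders _ (C.f_mem x) with e | e | e
    · exact mem_of_dvd (k := 3) (by simp) (orderOf_dvd_of_pow_eq_one ((C.pow_eq_one_iff x 3).2 e))
    · exact mem_of_dvd (k := 4) (by simp) (orderOf_dvd_of_pow_eq_one ((C.pow_eq_one_iff x 4).2 e))
    · exact mem_of_dvd (k := 7) (by simp) (orderOf_dvd_of_pow_eq_one ((C.pow_eq_one_iff x 7).2 e))
  · haveI : IsSimpleGroup ↥(alternatingGroup (Fin 6)) := alternatingGroup.isSimpleGroup (by simp)
    obtain ⟨e₁⟩ := CfsgLib.SmallSimple.O360.nonempty_iso h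
    obtain ⟨e₂⟩ := CfsgLib.SmallSimple.O360.nonempty_iso (G := ↥(alternatingGroup (Fin 6)))
      (by rw [nat_card_alternatingGroup, Nat.card_fin]; rfl)
    rw [← MulEquiv.orderOf_eq (e₁.trans e₂.symm) x]
    rcases CfsgLib.Spectrum.pow_cases_A6 ((e₁.trans e₂.symm) x) with e | e | e | e
    · exact mem_of_dvd (k := 2) (by simp) (orderOf_dvd_of_pow_eq_one e)
    · exact mem_of_dvd (k := 3) (by simp) (orderOf_dvd_of_pow_eq_one e)
    · exact mem_of_dvd (k := 4) (by simp) (orderOf_dvd_of_pow_eq_one e)
    · exact mem_of_dvd (k := 5) (by simp) (orderOf_dvd_of_pow_eq_one e)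

end CfsgLib.ThType
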