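import Cfsg.Agent.Lib.ThType.Cert.FixCheck
import Cfsg.Agent.Lib.ThType.Cert.GCheck
import Cfsg.Agent.Lib.ThType.Cert.TabCheck
import Cfsg.Agent.Lib.ThType.Local.Collapse

/-!
# The homomorphism from the presented Thompson group

The relators without b hold through the copy of the centraliser model; those with b hold because
their words fix every coset of the closed table, or because s and t centralise the element b.
-/

set_option autoImplicit false
set_option maxRecDepth 100000
set_option linter.unusedSectionVars false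

namespace CfsgLib.ThType

open CfsgLib.ThOut CfsgLib.ThType.Cert CfsgLib.ThType.Local Subgroup Cfsg.Spor

attribute [local irreducible] qW conjT blocks sameM

/-- The element b. -/
noncomputable def bEl {G : Type*} [Group G] (θ : ThOut.Hs →* G) (h : G) : G :=
  wval (letX θ h) (wordB.getD 0 [])

/-- The images of the eight generators. -/
noncomputable def genImg {G : Type*} [Group G] (θ : ThOut.Hs →* G) (h : G) : Th.Gen → G
  | .a => θ (hel 0)
  | .b => bEl θ h
  | .c => θ (hel 4)
  | .d => θ (hel 6)
  | .e => θ (hel 8)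
  | .s => θ (hel 10)
  | .t => θ (hel 12)
  | .u => θ (hel 14)

/-- The generators of the model, with b sent to one. -/
noncomputable def genModel : Th.Gen → ThOut.Hs
  | .a => hel 0
  | .b => 1
  | .c => hel 4
  | .d => hel 6
  | .e => hel 8
  | .s => hel 10
  | .t => hel 12
  | .u => hel 14

/-- Killing b in words. -/
def dropB : FreeGroup Th.Gen →* FreeGroup Th.Gen :=
  FreeGroup.lift fun g => if g = Th.Gen.b then 1 else FreeGroup.of g

theorem dropB_facts : (Th.extra.all fun r => decide (dropB r = r) ||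
    [Th.b ^ 2, (Th.a * Th.b) ^ 3, (Th.b * Th.c) ^ 3, (Th.b * Th.d) ^ 2, (Th.b * Th.e) ^ 2,
      (Th.b * Th.c * Th.d * Th.e) ^ 8, Th.s⁻¹ * Th.b⁻¹ * Th.s * Th.b, Th.t⁻¹ * Th.b⁻¹ * Th.t * Th.b,
      (Th.u⁻¹ * (Th.b⁻¹ * (Th.a * Th.c) * Th.b)⁻¹ * Th.u * (Th.b⁻¹ * (Th.a * Th.c) * Th.b)) * (Th.e⁻¹),
      ((Th.d⁻¹ * Th.u * Th.d)⁻¹ * (Th.b⁻¹ * (Th.a * Th.c) * Th.b)⁻¹ * (Th.d⁻¹ * Th.u * Th.d) *
          (Th.b⁻¹ * (Th.a * Th.c) * Th.b)) *
        ((Th.u * Th.e * (Th.b⁻¹ * (Th.a * Th.c) * Th.b) * (Th.d⁻¹ * Th.u * Th.d) * Th.e * Th.c)⁻¹)].contains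
      r) = true := by
  decide +kernel

section

variable [IsSimpleGroup Cfsg.Spor.Th] {G : Type*} [Group G] {θ : ThOut.Hs →* G} {h : G}
  (H : HHyp θ h)
include H

theorem model_rel {r : FreeGroup Th.Gen} (hr : r ∈ Th.extra) (hd : dropB r = r) :
    FreeGroup.lift (genImg θ h) r = 1 := by
  have e1 : (FreeGroup.lift (genImg θ h)).comp dropB = θ.comp (FreeGroup.lift genModel) := by
    refine FreeGroup.ext_hom _ _ fun g => ?_
    cases g <;> simp [dropB, genImg, genModel]
  have e2 : (ThOut.Hs.subtype).comp (FreeGroup.lift genModel) =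
      (PresentedGroup.mk (coxRelators Th.edges ∪ {r | r ∈ Th.extra})).comp dropB := by
    refine FreeGroup.ext_hom _ _ fun g => ?_
    cases g <;> simp [dropB, genModel, coe_hel, hL, el] <;> rfl
  have h1 : FreeGroup.lift genModel r = 1 := by
    refine Subtype.ext ?_
    have := DFunLike.congr_fun e2 r
    simp only [MonoidHom.comp_apply, hd] at this
    refine this.trans ?_
    exact PresentedGroup.one_of_mem (Or.inr hr)
  rw [← hd, ← MonoidHom.comp_apply, e1, MonoidHom.comp_apply, h1, map_one]

variable [Finite Cfsg.Spor.Th] [Finite G]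
  (hC : Nat.card (Subgroup.centralizer ({el 0} : Set Cfsg.Spor.Th)) ≤ 92897280)
include hC

theorem short_one {w : List ℕ} (hw : w ∈ shortRels) :
    wval (letX θ h) (expandW 8 (wordB.getD 0 []) w) = 1 := by
  refine (setup H hC).trivial_of_fixes (D := certG) (by decide +kernel) certG_closed
    (rels := certGRels) (hints := certGHints) certG_hints certG_marks ?_ (T := actTab) tab_steps
    tab_extra (by decide +kernel) tab_fixes (by decide +kernel) hw
  intro v hv
  simp only [certGRels, List.mem_append, List.mem_cons, List.not_mem_nil, or_false] at hv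
  rcases hv with hv | rfl | rfl
  · exact common_rel H v hv
  · have := hk_three H hC
    simpa [wval, letX, back, kEl, pow_succ, mul_assoc] using this
  · exact r0_one H hC _ (by simp [relR0])

theorem b_comm : Commute (θ (hel 10)) (bEl θ h) ∧ Commute (θ (hel 12)) (bEl θ h) := by
  refine pSub_comm H hC ?_
  have hz : θ (hev [0]) ∈ pSub θ h := by
    have mc : θ (hev [4]) ∈ pSub θ h := subset_closure (Or.inl rfl)
    have mf : θ (hev [6, 4, 6]) ∈ pSub θ h := subset_closure (Or.inr (Or.inl rfl))
    have := mul_mem (mul_mem mc mf) (mul_mem mc mf)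
    rw [← map_mul, ← map_mul, ← hev_append, ← hev_append] at this
    rwa [show hev ([4] ++ [6, 4, 6] ++ ([4] ++ [6, 4, 6])) = hev [0] from
      hev_eq (by decide) (by decide) cf_sq] at this
  have mh : h ∈ pSub θ h := subset_closure (Or.inr (Or.inr (Or.inl rfl)))
  have mk : kEl θ h ∈ pSub θ h := subset_closure (Or.inr (Or.inr (Or.inr rfl)))
  have : bEl θ h = h * kEl θ h * h⁻¹ * θ (hev [0]) * (h * (kEl θ h)⁻¹ * h⁻¹) := by
    rw [kEl_inv H]
    simp [bEl, wordB, wval, letX, back, kEl, mul_assoc]
  rw [this]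
  exact mul_mem (mul_mem (mul_mem (mul_mem mh mk) (inv_mem mh)) hz)
    (mul_mem (mul_mem mh (inv_mem mk)) (inv_mem mh))

/-- The relators of the presentation hold. -/
theorem relators_hold : ∀ r ∈ coxRelators Th.edges ∪ {r | r ∈ Th.extra},
    FreeGroup.lift (genImg θ h) r = 1 := by
  rintro r (⟨x, hx, -⟩ | hr)
  · simp [Th.edges, coxNodes] at hx
  have hfact := List.all_eq_true.1 dropB_facts r hr
  simp only [Bool.or_eq_true, decide_eq_true_eq, List.contains_iff_mem] at hfact
  rcases hfact with hd | hd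
  · exact model_rel H hr hd
  have hb : bEl θ h = wval (letX θ h) (wordB.getD 0 []) := rfl
  have inv2 : ∀ g : ℕ, g < 4 → (letX θ h g)⁻¹ = letX θ h g := fun g hg => by
    rw [← letters_inv H g (by omega)]
    interval_cases g <;> rfl
  have ia : (θ (hel 0))⁻¹ = θ (hel 0) := by simpa [letX, back, hev] using inv2 0 (by norm_num)
  have ic : (θ (hel 4))⁻¹ = θ (hel 4) := by simpa [letX, back, hev] using inv2 1 (by norm_num)
  have id' : (θ (hel 6))⁻¹ = θ (hel 6) := by simpa [letX, back, hev] using inv2 2 (by norm_num)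
  have ie : (θ (hel 8))⁻¹ = θ (hel 8) := by simpa [letX, back, hev] using inv2 3 (by norm_num)
  have iu : θ (hel 15) = (θ (hel 14))⁻¹ := by
    simpa [letX, back, hev, ivL] using letters_inv H 4 (by norm_num)
  have hexp : ∀ w : List ℕ, wval (letX θ h) (expandW 8 (wordB.getD 0 []) w) =
      (w.map fun g => if g = 8 then bEl θ h else letX θ h g).prod := by
    intro w
    induction w with
    | nil => rfl
    | cons g w ih =>
      rw [List.map_cons, List.prod_cons, ← ih]
      by_cases hg : g = 8 <;> simp [expandW, wval, hg, hb, List.prod_append]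
  have short : ∀ w ∈ shortRels, (w.map fun g => if g = 8 then bEl θ h else letX θ h g).prod = 1 :=
    fun w hw => (hexp w).symm.trans (short_one H hC hw)
  have bb := short [8, 8] (by simp [shortRels])
  have ib : (bEl θ h)⁻¹ = bEl θ h := by
    refine inv_eq_of_mul_eq_one_right ?_
    simpa using bb
  obtain ⟨cs, ct⟩ := b_comm H hC
  simp only [List.mem_cons, List.not_mem_nil, or_false] at hd
  rcases hd with rfl | rfl | rfl | rfl | rfl | rfl | rfl | rfl | rfl | rfl <;>
    simp only [map_mul, map_pow, map_inv, FreeGroup.lift_apply_of, genImg, ib]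
  · simpa [pow_succ] using bb
  · simpa [letX, back, hev, pow_succ, mul_assoc] using short [0, 8, 0, 8, 0, 8] (by simp [shortRels])
  · simpa [letX, back, hev, pow_succ, mul_assoc] using short [8, 1, 8, 1, 8, 1] (by simp [shortRels])
  · simpa [letX, back, hev, pow_succ, mul_assoc] using short [8, 2, 8, 2] (by simp [shortRels])
  · simpa [letX, back, hev, pow_succ, mul_assoc] using short [8, 3, 8, 3] (by simp [shortRels])
  · simpa [letX, back, hev, pow_succ, mul_assoc] using
      short (List.replicate 8 [8, 1, 2, 3]).flatten (by decide +kernel)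
  · have := cs.eq
    calc (θ (hel 10))⁻¹ * bEl θ h * θ (hel 10) * bEl θ h
        = (θ (hel 10))⁻¹ * (bEl θ h * θ (hel 10)) * bEl θ h := by group
      _ = bEl θ h * bEl θ h := by rw [← this]; group
      _ = 1 := by simpa using bb
  · have := ct.eq
    calc (θ (hel 12))⁻¹ * bEl θ h * θ (hel 12) * bEl θ h
        = (θ (hel 12))⁻¹ * (bEl θ h * θ (hel 12)) * bEl θ h := by group
      _ = bEl θ h * bEl θ h := by rw [← this]; group
      _ = 1 := by simpa using bb
  · have := short [5, 8, 1, 0, 8, 4, 8, 0, 1, 8, 3] (by simp [shortRels])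
    simpa [letX, back, hev, mul_inv_rev, ib, ia, ic, id', ie, iu, mul_assoc] using this
  · have := short [2, 5, 2, 8, 1, 0, 8, 2, 4, 2, 8, 0, 1, 8, 1, 3, 2, 5, 2, 8, 1, 0, 8, 3, 5]
      (by simp [shortRels])
    simpa [letX, back, hev, mul_inv_rev, ib, ia, ic, id', ie, iu, mul_assoc] using this

/-- The presented group maps injectively onto a subgroup containing the centraliser of the image
of a. -/
theorem exists_hom : ∃ φ : Cfsg.Spor.Th →* G, Function.Injective φ ∧ φ (el 0) = θ zH ∧
    centralizer ({θ zH} : Set G) ≤ φ.range := by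
  set φ := PresentedGroup.toGroup (relators_hold H hC) with hφ
  have hof : ∀ g, φ (PresentedGroup.of g) = genImg θ h g := fun g => PresentedGroup.toGroup.of _
  have hel : ∀ g ∈ gL, φ (el g) = θ (hel g) := by
    intro g hg
    simp only [gL, List.mem_cons, List.not_mem_nil, or_false] at hg
    rcases hg with rfl | rfl | rfl | rfl | rfl | rfl | rfl <;> exact hof _
  have h0 : φ (el 0) = θ zH := hel 0 (by decide)
  refine ⟨φ, ?_, h0, ?_⟩
  · rw [← MonoidHom.ker_eq_bot_iff]
    refine ((MonoidHom.normal_ker φ).eq_bot_or_eq_top).resolve_right fun htop => ?_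
    have : φ (el 0) = 1 := MonoidHom.mem_ker.1 (htop ▸ mem_top _)
    exact zH_ne (H.inj (by rw [map_one, ← h0, this]))
  · rw [H.range]
    rintro _ ⟨⟨x, hx⟩, rfl⟩
    suffices hh : φ x = θ ⟨x, hx⟩ from ⟨x, hh⟩
    induction hx using Subgroup.closure_induction with
    | mem y hy =>
      obtain ⟨g, hg, rfl⟩ := hy
      rw [hel g hg]
      exact congrArg θ (Subtype.ext (coe_hel (gL_sub g hg)))
    | one => rw [map_one]; exact (map_one θ).symm
    | mul y z hy hz h1 h2 => rw [map_mul, h1, h2, ← map_mul]; rfl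
    | inv y hy h1 => rw [map_inv, h1, ← map_inv]; rfl

end

end CfsgLib.ThType
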