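import Cfsg.Agent.Lib.ThType.Coords.Main
import Cfsg.Agent.Lib.ThType.Fusion.SpinFusion
import Cfsg.Agent.Lib.ThType.Endgame.Frame
import Cfsg.Agent.Lib.ThType.Endgame.Main
import Cfsg.Agent.Lib.ThType.Glue

/-!
# Recognition of the Thompson group from an involution centraliser

The coordinates give a copy of the centraliser of the presented group or its twisted form. The
untwisted copy and the element of order three give a copy of the whole group.
-/

set_option autoImplicit false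
set_option linter.unusedSectionVars false

namespace CfsgLib.ThType

open Subgroup CfsgLib.ExtraNine CfsgLib.ThOut

variable [IsSimpleGroup Cfsg.Spor.Th] [Finite Cfsg.Spor.Th]

/-- The untwisted and the twisted case, given the element of order three and the exclusion. -/
theorem exists_hom_of_frame
    (hC : Nat.card (centralizer ({el 0} : Set Cfsg.Spor.Th)) ≤ 92897280)
    {G : Type*} [Group G] [Finite G] {V : Type*} [AddCommGroup V] [Finite V] {N : Nine G V}
    (e : Perm.A9 ≃* ↥N.ρ.range) (hcard : Nat.card V = 256)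
    (hG : centralizer ({N.z} : Set G) ⊔ Cfsg.oddCore G ≠ ⊤)
    (hh : ∀ (θ : ThOut.Hs →* G), Function.Injective θ →
      θ.range = centralizer ({θ zH} : Set G) →
      ∀ h0 : G, h0 * θ zH * h0⁻¹ = θ zH * θ (hev [4]) → h0 * θ (hev [4]) * h0⁻¹ = θ zH →
      ∃ h, HHyp θ h)
    (htw : ∀ (E : Coords.Exact N) (Γ : Subgroup (ThOut.Hs × G)), E.δ = true →
      Coords.Twisted E Γ → (∀ c ∈ N.Q, c * c = 1 → c ≠ 1 → c ≠ N.z →
        ∃ h : G, h * N.z * h⁻¹ = N.z * c ∧ h * c * h⁻¹ = N.z) → False) :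
    ∃ φ : Cfsg.Spor.Th →* G, Function.Injective φ ∧ centralizer ({φ (el 0)} : Set G) ≤ φ.range := by
  obtain ⟨A, hinj, hr, ⟨P⟩, E, h0, h1⟩ := Coords.exists_coords hC e hcard hG
  have hswap : ∀ c ∈ N.Q, c * c = 1 → c ≠ 1 → c ≠ N.z →
      ∃ h : G, h * N.z * h⁻¹ = N.z * c ∧ h * c * h⁻¹ = N.z :=
    fun c hc hc2 hc1 hcz => Fusion.exists_swap P hinj hr hG hc hc2 hc1 hcz
  by_cases hδ : E.δ = true
  · obtain ⟨Γ, hΓ⟩ := h1 hδ
    exact (htw E Γ hδ hΓ hswap).elim
  obtain ⟨θ, hi, hz, hrange, hq, -⟩ := h0 (by simpa using hδ)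
  have hcQ : hev [4] ∈ ThOut.Qs := ⟨1, by norm_num, Local.eb_one.symm⟩
  have hne : hev [4] ≠ 1 ∧ hev [4] ≠ zH := by
    have key : bar (hev [4]) ≠ 1 := by
      intro e
      rw [← Local.eb_one, ← eb_zero (n := 8)] at e
      exact absurd (eb_inj (by norm_num) (by norm_num) e) (by norm_num)
    exact ⟨fun e => key (by rw [e, map_one]), fun e => key (by rw [e, bar_zH])⟩
  have hsq : hev [4] * hev [4] = 1 := by
    rw [show ([4] : List ℕ) = qw 0 by decide +kernel]
    exact qq_sq (by norm_num)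
  obtain ⟨g, hg1, hg2⟩ := hswap (θ (hev [4])) (E.range ▸ ⟨⟨_, hcQ⟩, (hq ⟨_, hcQ⟩).symm⟩)
    (by rw [← map_mul, hsq, map_one]) (fun e => hne.1 (hi (by rw [map_one]; exact e)))
    (fun e => hne.2 (hi (by rw [hz]; exact e)))
  rw [← hz] at hg1 hg2
  obtain ⟨h, H⟩ := hh θ hi (by rw [hz]; exact hrange) g hg1 hg2
  obtain ⟨φ, hφ, hφ0, hle⟩ := exists_hom H hC
  exact ⟨φ, hφ, by rw [hφ0]; exact hle⟩

end CfsgLib.ThType
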